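import Groth.Agent.L09.ResGen.Extend
import Groth.Agent.L18.IdealModule

/-!
A finitely presented module whose tensor powers generate, on a qcqs scheme.
-/

set_option autoImplicit false
set_option linter.style.haveILetI false
set_option backward.isDefEq.respectTransparency.types false
set_option backward.isDefEq.respectTransparency false

universe u

open CategoryTheory CategoryTheory.Limits AlgebraicGeometry TopologicalSpace Opposite

noncomputable section

namespace Groth.L09.ResGen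

variable {X : Scheme.{u}}

/-- A finitely presented module with a linear form whose non-vanishing locus is a given affine open. -/
theorem exists_form [CompactSpace X] [QuasiSeparatedSpace X] (U : X.Opens) (hU : IsAffineOpen U) :
    ∃ (H : X.Modules) (φ : H ⟶ Coh.structureModule X) (h : Γ(H, U)),
      CohB1.IsFP H ∧ Supp φ U ∧ (show Γ(X, U) from φ.app U h) = 1 := by
  obtain ⟨I, hI, hIs, hItop⟩ := Groth.L18.IdealModule.exists_finiteType_of_isCompact U hU.isCompact
  obtain ⟨H, p, hH, hp⟩ := Groth.L19.LimMod.exists_fp_epi (ClSub.idealMod I)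
    (Groth.L18.IdealModule.isCoh_idealMod I hI)
  haveI := Groth.L05.Prufer.isQCoh_of_isFP hH
  haveI := hp
  have h1 : (1 : Γ(X, U)) ∈ I.ideal ⟨U, hU⟩ := by rw [hItop _ le_rfl]; trivial
  obtain ⟨m, hm⟩ := (Groth.L18.IdealModule.mem_ideal_iff I hU 1).1 h1
  obtain ⟨h, rfl⟩ := Groth.L16.AffineBC.surjective_app_of_epi p hU m
  refine ⟨H, p ≫ ClSub.idealModι I, h, hH, fun V hV y x hx => ?_, hm⟩
  by_contra hxU
  have hxI : x ∈ (I.support : Set X) := by rw [hIs]; exact hxU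
  have hxV : x ∈ V := X.basicOpen_le _ hx
  have h2 := (I.mem_support_iff_of_mem (U := ⟨V, hV⟩) hxV).1 hxI
  rw [Scheme.mem_zeroLocus_iff] at h2
  exact h2 _ ((Groth.L18.IdealModule.mem_ideal_iff I hV _).2 ⟨p.app V y, rfl⟩) hx

theorem exists_generator (X : Scheme.{u}) [CompactSpace X] [QuasiSeparatedSpace X] :
    ∃ F : X.Modules, Coh.IsQCoh F ∧ CohB1.IsFP F ∧
      ∀ M : X.Modules, Coh.IsQCoh M → CohB1.IsFP M →
        ∃ n₀ m₀ : ℕ, ∀ n m : ℕ, n₀ ≤ n → m₀ ≤ m →
          ∃ π : (∐ fun _ : Fin m => CohB1.tensorPow F n) ⟶ M, Epi π := by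
  classical
  obtain ⟨k, U, hU, hcov⟩ := Groth.L19.LimMod.exists_affine_cover X
  choose H φ h hH hφ hh using fun a : ULift.{u} (Fin k) => exists_form (U a.down) (hU a.down)
  have hF : CohB1.IsFP (∐ H) := Groth.L19.FPExtend.isFP_sigma H hH
  refine ⟨∐ H, Groth.L05.Prufer.isQCoh_of_isFP hF, hF, fun M hM hMfp => ?_⟩
  haveI := hM
  let pr : ∀ a, (∐ H) ⟶ H a := fun a =>
    Sigma.desc fun b => if hb : b = a then eqToHom (congrArg H hb) else 0
  have hpr : ∀ a, Sigma.ι H a ≫ pr a = 𝟙 _ := fun a => by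
    rw [Sigma.ι_desc, dif_pos rfl]
    rfl
  have hsupp : ∀ a, Supp (pr a ≫ φ a) (U a.down) := fun a V hV y => hφ a V hV ((pr a).app V y)
  have hone : ∀ a, (show Γ(X, U a.down) from
      (pr a ≫ φ a).app (U a.down) ((Sigma.ι H a).app (U a.down) (h a))) = 1 := fun a =>
    (congrArg ((φ a).app (U a.down)) (congr(($(hpr a)).app (U a.down) (h a)))).trans (hh a)
  choose gens hgens using fun a : Fin k =>
    (Groth.L20.ModStalk.finite_sections M ⟨hM, Groth.L19.LimMod.isFT_of_isFP hMfp⟩ (hU a)).fg_top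
  let κ := Σ a : ULift.{u} (Fin k), gens a.down
  choose N hN using fun z : κ => exists_extend (U z.1.down) (hU z.1.down).isCompact (∐ H) hF
    (pr z.1 ≫ φ z.1) (hsupp z.1) _ (hone z.1) M z.2.1
  obtain ⟨n₀, hn₀⟩ := (Set.finite_range N).bddAbove
  haveI : Fintype κ := Fintype.ofFinite κ
  refine ⟨n₀, Fintype.card κ, fun n m hn hm => ?_⟩
  choose t ht using fun z : κ => hN z n ((hn₀ ⟨z, rfl⟩).trans hn)
  let e := Fintype.equivFin κ
  let f : Fin m → (CohB1.tensorPow (∐ H) n ⟶ M) := fun i =>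
    if hi : i.1 < Fintype.card κ then t (e.symm ⟨i.1, hi⟩) else 0
  refine ⟨Sigma.desc f, ?_⟩
  have hT : CohB1.IsFP (∐ fun _ : Fin m => CohB1.tensorPow (∐ H) n) :=
    Groth.L22.Inter.FlatTwist.isFP_of_iso
      (Sigma.reindex (Equiv.ulift.{u} : ULift.{u} (Fin m) ≃ Fin m) fun _ => CohB1.tensorPow (∐ H) n)
      (Groth.L19.FPExtend.isFP_sigma _ fun _ => isFP_tensorPow _ hF n)
  haveI := Groth.L05.Prufer.isQCoh_of_isFP hT
  refine Groth.L19.LimMod.epi_of_hits _ U hU hcov fun a => ⟨gens a, hgens a, fun y hy => ?_⟩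
  obtain ⟨w, hw⟩ := ht ⟨ULift.up a, y, hy⟩
  let i : Fin m := ⟨(e ⟨ULift.up a, y, hy⟩).1, lt_of_lt_of_le (e _).2 hm⟩
  refine ⟨(Sigma.ι (fun _ : Fin m => CohB1.tensorPow (∐ H) n) i).app (U a) w, Eq.trans ?_ hw⟩
  have hf : Sigma.ι (fun _ : Fin m => CohB1.tensorPow (∐ H) n) i ≫ Sigma.desc f = t ⟨ULift.up a, y, hy⟩ := by
    rw [Sigma.ι_desc]
    show dite _ _ _ = _
    rw [dif_pos (e ⟨ULift.up a, y, hy⟩).2]
    exact congrArg t (e.symm_apply_apply _)
  exact congr(($hf).app (U a) w)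

end Groth.L09.ResGen
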